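/-
Chains for type E7, generated from `Cfsg.Lie.chevE7`.
-/
import Cfsg.Agent.Lib.Chev.Data.E7.Tab

set_option autoImplicit false
set_option maxRecDepth 20000
set_option linter.all false
set_option Elab.async false

namespace CfsgLib.Chev.DataE7

open Cfsg.Lie CfsgLib.Chev.Table

theorem chk_chain : tab.chkChain chevE7 = true := by decide +kernel

end CfsgLib.Chev.DataE7
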